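import Mathlib

/-!
# The group of order 54 on two elements of order 3 inverted by an involution
-/

set_option autoImplicit false

namespace Cfsg.Agent.Fischer3U32

/-- Two elements with central nontrivial commutator, inverted by an involution. -/
structure Rel54 {M : Type*} [Group M] (a b d : M) : Prop where
  a3 : a ^ 3 = 1
  b3 : b ^ 3 = 1
  d2 : d * d = 1
  da : d * a * d = a⁻¹
  db : d * b * d = b⁻¹
  za : Commute (a * b * a⁻¹ * b⁻¹) a
  zb : Commute (a * b * a⁻¹ * b⁻¹) b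
  nc : a * b * a⁻¹ * b⁻¹ ≠ 1

variable {M : Type*} [Group M] {a b d : M}

theorem Rel54.z3 (h : Rel54 a b d) : (a * b * a⁻¹ * b⁻¹) ^ 3 = 1 := by
  set z := a * b * a⁻¹ * b⁻¹ with hz
  have hconj : a * b * a⁻¹ = z * b := by rw [hz]; group
  have : (z * b) ^ 3 = 1 := by rw [← hconj, conj_pow, h.b3]; group
  rwa [h.zb.mul_pow, h.b3, mul_one] at this

theorem Rel54.ba (h : Rel54 a b d) : b * a = a * b * (a * b * a⁻¹ * b⁻¹)⁻¹ := by
  have : (a * b * a⁻¹ * b⁻¹)⁻¹ * (a * b) = b * a := by group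
  rw [← this]
  exact ((h.za.mul_right h.zb).inv_left).eq

theorem Rel54.dz (h : Rel54 a b d) : Commute (a * b * a⁻¹ * b⁻¹) d := by
  set z := a * b * a⁻¹ * b⁻¹ with hz
  have hdi : d⁻¹ = d := inv_eq_of_mul_eq_one_right h.d2
  have e1 : d * z * d = a⁻¹ * b⁻¹ * a * b := by
    have hm : ∀ x, d * x * d = MulAut.conj d x := fun x => by rw [MulAut.conj_apply, hdi]
    rw [hm, hz, map_mul, map_mul, map_mul, map_inv, map_inv, ← hm, ← hm, h.da, h.db, inv_inv,
      inv_inv]
  have e2 : a⁻¹ * b⁻¹ * a * b = z := by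
    calc a⁻¹ * b⁻¹ * a * b = (b * a)⁻¹ * z * (b * a) := by rw [hz]; group
      _ = z := by rw [mul_assoc, (h.zb.mul_right h.za).eq, inv_mul_cancel_left]
  have e3 : d * z * d = z := e1.trans e2
  calc z * d = d * z * d * d := by rw [e3]
    _ = d * z := by rw [mul_assoc _ d d, h.d2, mul_one]

/-- The 54 candidate members. -/
def elt (a b d : M) (t : (Fin 3 × Fin 3) × Fin 3 × Fin 2) : M :=
  a ^ (t.1.1 : ℕ) * b ^ (t.1.2 : ℕ) * (a * b * a⁻¹ * b⁻¹) ^ (t.2.1 : ℕ) * d ^ (t.2.2 : ℕ)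

theorem Rel54.mem_range (h : Rel54 a b d) {x : M} (hx : x ∈ Subgroup.closure ({a, b, d} : Set M)) :
    ∃ t, elt a b d t = x := by
  obtain ⟨z, hz⟩ : ∃ z, z = a * b * a⁻¹ * b⁻¹ := ⟨_, rfl⟩
  have hza : Commute z a := hz ▸ h.za
  have hzb : Commute z b := hz ▸ h.zb
  have hnc : z ≠ 1 := hz ▸ h.nc
  have hz3 : z ^ 3 = 1 := hz ▸ h.z3
  let P0 : M → Prop := fun x => ∃ i j k : ℕ, x = a ^ i * b ^ j * z ^ k
  have hPz : ∀ x, P0 x → P0 (x * z) := by
    rintro _ ⟨i, j, k, rfl⟩
    exact ⟨i, j, k + 1, by rw [mul_assoc, ← pow_succ]⟩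
  have hPb : ∀ x, P0 x → P0 (x * b) := by
    rintro _ ⟨i, j, k, rfl⟩
    exact ⟨i, j + 1, k, by rw [mul_assoc _ _ b, (hzb.pow_left k).eq, pow_succ]; simp only [mul_assoc]⟩
  have hzi : ∀ x, P0 x → P0 (x * z⁻¹) := by
    intro x hx
    rw [inv_eq_of_mul_eq_one_right (show z * (z * z) = 1 by rw [← hz3, pow_three]), ← mul_assoc]
    exact hPz _ (hPz _ hx)
  have hba : ∀ j : ℕ, b ^ j * a = a * b ^ j * (z ^ j)⁻¹ := by
    intro j
    induction j with
    | zero => simp
    | succ j ih =>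
      have hc : Commute (z ^ j)⁻¹ b := (hzb.pow_left j).inv_left
      calc b ^ (j + 1) * a = b ^ j * (b * a) := by rw [pow_succ, mul_assoc]
        _ = (b ^ j * a) * b * z⁻¹ := by rw [h.ba, ← hz]; simp only [mul_assoc]
        _ = a * b ^ j * ((z ^ j)⁻¹ * b) * z⁻¹ := by rw [ih]; simp only [mul_assoc]
        _ = a * b ^ j * b * ((z ^ j)⁻¹ * z⁻¹) := by rw [hc.eq]; simp only [mul_assoc]
        _ = a * b ^ (j + 1) * (z ^ (j + 1))⁻¹ := by
          rw [← mul_inv_rev, ← pow_succ', mul_assoc a, ← pow_succ]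
  have hPa : ∀ x, P0 x → P0 (x * a) := by
    rintro _ ⟨i, j, k, rfl⟩
    refine ⟨i + 1, j, k + 2 * j, ?_⟩
    calc a ^ i * b ^ j * z ^ k * a = a ^ i * (b ^ j * a) * z ^ k := by
          rw [mul_assoc _ _ a, (hza.pow_left k).eq]; simp only [mul_assoc]
      _ = a ^ i * a * b ^ j * ((z ^ j)⁻¹ * z ^ k) := by rw [hba]; simp only [mul_assoc]
      _ = a ^ (i + 1) * b ^ j * z ^ (k + 2 * j) := by
        rw [← pow_succ]
        congr 1
        rw [inv_mul_eq_iff_eq_mul, ← pow_add, show j + (k + 2 * j) = k + 3 * j by ring, pow_add,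
          pow_mul, hz3, one_pow, mul_one]
  let P1 : M → Prop := fun x => P0 x ∨ ∃ y, P0 y ∧ x = y * d
  have hai : a⁻¹ = a * a := inv_eq_of_mul_eq_one_right (by rw [← h.a3, pow_three])
  have hbi : b⁻¹ = b * b := inv_eq_of_mul_eq_one_right (by rw [← h.b3, pow_three])
  have hdi : d⁻¹ = d := inv_eq_of_mul_eq_one_right h.d2
  have step : ∀ g ∈ ({a, b, d} : Set M), ∀ x, P1 x → P1 (x * g) := by
    intro g hg x hx
    simp only [Set.mem_insert_iff, Set.mem_singleton_iff] at hg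
    rcases hx with hx | ⟨y, hy, hxy⟩ <;> rcases hg with hg' | hg' | hg' <;> rw [hg']
    · exact Or.inl (hPa x hx)
    · exact Or.inl (hPb x hx)
    · exact Or.inr ⟨x, hx, rfl⟩
    · refine Or.inr ⟨y * a * a, hPa _ (hPa _ hy), ?_⟩
      rw [hxy, mul_assoc y d a, show d * a = a⁻¹ * d by
        rw [← h.da, mul_assoc _ d d, h.d2, mul_one], hai]
      simp only [mul_assoc]
    · refine Or.inr ⟨y * b * b, hPb _ (hPb _ hy), ?_⟩
      rw [hxy, mul_assoc y d b, show d * b = b⁻¹ * d by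
        rw [← h.db, mul_assoc _ d d, h.d2, mul_one], hbi]
      simp only [mul_assoc]
    · exact Or.inl (by rw [hxy, mul_assoc, h.d2, mul_one]; exact hy)
  have stepinv : ∀ g ∈ ({a, b, d} : Set M), ∀ x, P1 x → P1 (x * g⁻¹) := by
    intro g hg x hx
    simp only [Set.mem_insert_iff, Set.mem_singleton_iff] at hg
    rcases hg with hg' | hg' | hg' <;> rw [hg']
    · rw [hai, ← mul_assoc]; exact step a (by simp) _ (step a (by simp) x hx)
    · rw [hbi, ← mul_assoc]; exact step b (by simp) _ (step b (by simp) x hx)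
    · rw [hdi]; exact step d (by simp) x hx
  have hP : P1 x := by
    induction hx using Subgroup.closure_induction_right with
    | one => exact Or.inl ⟨0, 0, 0, by simp⟩
    | mul_right x _ g hg ih => exact step g hg x ih
    | mul_inv_cancel x _ g hg ih => exact stepinv g hg x ih
  have red : ∀ (u : M), u ^ 3 = 1 → ∀ i : ℕ,
      u ^ ((⟨i % 3, Nat.mod_lt _ (by norm_num)⟩ : Fin 3) : ℕ) = u ^ i := by
    intro u hu i
    conv_rhs => rw [← Nat.div_add_mod i 3, pow_add, pow_mul, hu, one_pow, one_mul]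
  rcases hP with ⟨i, j, k, hx⟩ | ⟨y, ⟨i, j, k, hy⟩, hx⟩
  · refine ⟨((⟨i % 3, Nat.mod_lt _ (by norm_num)⟩, ⟨j % 3, Nat.mod_lt _ (by norm_num)⟩),
      ⟨k % 3, Nat.mod_lt _ (by norm_num)⟩, 0), ?_⟩
    simp only [elt, ← hz]
    rw [red a h.a3, red b h.b3, red z hz3, hx]
    simp
  · refine ⟨((⟨i % 3, Nat.mod_lt _ (by norm_num)⟩, ⟨j % 3, Nat.mod_lt _ (by norm_num)⟩),
      ⟨k % 3, Nat.mod_lt _ (by norm_num)⟩, 1), ?_⟩
    simp only [elt, ← hz]
    rw [red a h.a3, red b h.b3, red z hz3, hx, hy]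
    simp

theorem Rel54.elt_injective (h : Rel54 a b d) : Function.Injective (elt a b d) := by
  obtain ⟨z, hz⟩ : ∃ z, z = a * b * a⁻¹ * b⁻¹ := ⟨_, rfl⟩
  have hza : Commute z a := hz ▸ h.za
  have hzb : Commute z b := hz ▸ h.zb
  have hnc : z ≠ 1 := hz ▸ h.nc
  haveI : Fact (Nat.Prime 3) := ⟨Nat.prime_three⟩
  have hz3 : z ^ 3 = 1 := hz ▸ h.z3
  have ho : orderOf z = 3 := orderOf_eq_prime hz3 hnc
  have hzinj : ∀ m n : Fin 3, z ^ (m : ℕ) = z ^ (n : ℕ) → m = n := fun m n hmn =>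
    Fin.ext (pow_injOn_Iio_orderOf (x := z) (by simpa [ho] using m.2) (by simpa [ho] using n.2) hmn)
  have hab : a * b * a⁻¹ = z * b := by rw [hz]; group
  have hbab : b * a * b⁻¹ = z⁻¹ * a := by rw [hz]; group
  have conja : ∀ i j k : ℕ, a * (a ^ i * b ^ j * z ^ k) * a⁻¹ = z ^ j * (a ^ i * b ^ j * z ^ k) := by
    intro i j k
    have e1 : ∀ x y : M, a * (x * y) * a⁻¹ = (a * x * a⁻¹) * (a * y * a⁻¹) := fun x y => by group
    rw [e1, e1, show a * a ^ i * a⁻¹ = a ^ i by rw [← pow_succ', pow_succ, mul_inv_cancel_right],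
      ← conj_pow, hab, hzb.mul_pow,
      show a * z ^ k * a⁻¹ = z ^ k by rw [(hza.pow_left k).symm.eq, mul_inv_cancel_right],
      ← mul_assoc (a ^ i), ((hza.pow_left j).pow_right i).symm.eq]
    simp only [mul_assoc]
  have conjb : ∀ i : ℕ, b * a ^ i * b⁻¹ = z⁻¹ ^ i * a ^ i := fun i => by
    rw [← conj_pow, hbab, hza.inv_left.mul_pow]
  have hbn : ∀ n : ℕ, b ^ n * a * (b ^ n)⁻¹ = (z ^ n)⁻¹ * a := by
    intro n
    induction n with
    | zero => simp
    | succ n ih =>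
      calc b ^ (n + 1) * a * (b ^ (n + 1))⁻¹ = b * (b ^ n * a * (b ^ n)⁻¹) * b⁻¹ := by
            rw [pow_succ']; simp only [mul_inv_rev, mul_assoc]
        _ = (z ^ n)⁻¹ * (b * a * b⁻¹) := by
            rw [ih, ← mul_assoc b, ((hzb.pow_left n).inv_left).symm.eq]; simp only [mul_assoc]
        _ = (z ^ (n + 1))⁻¹ * a := by rw [hbab, pow_succ', mul_inv_rev, mul_assoc]
  have conjq : ∀ i j k : ℕ,
      (a ^ i * b ^ j * z ^ k) * a * (a ^ i * b ^ j * z ^ k)⁻¹ = (z ^ j)⁻¹ * a := by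
    intro i j k
    calc (a ^ i * b ^ j * z ^ k) * a * (a ^ i * b ^ j * z ^ k)⁻¹
        = a ^ i * (b ^ j * (z ^ k * a * (z ^ k)⁻¹) * (b ^ j)⁻¹) * (a ^ i)⁻¹ := by
          simp only [mul_inv_rev, mul_assoc]
      _ = a ^ i * ((z ^ j)⁻¹ * a) * (a ^ i)⁻¹ := by
          rw [(hza.pow_left _).eq, mul_inv_cancel_right, hbn]
      _ = (z ^ j)⁻¹ * a := by
          rw [← mul_assoc, (((hza.pow_left j).inv_left).pow_right i).symm.eq,
            mul_assoc _ (a ^ i), ← pow_succ, pow_succ', mul_assoc, mul_inv_cancel_right]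
  -- the involution is not a product of `a` and `b`
  have nd : ∀ i j k i' j' k' : ℕ, a ^ i * b ^ j * z ^ k * d ≠ a ^ i' * b ^ j' * z ^ k' := by
    intro i j k i' j' k' he
    have h1 := conjq i' j' k'
    rw [← he] at h1
    have h2 : a ^ i * b ^ j * z ^ k * d * a * (a ^ i * b ^ j * z ^ k * d)⁻¹ =
        ((a ^ i * b ^ j * z ^ k) * a * (a ^ i * b ^ j * z ^ k)⁻¹)⁻¹ := by
      generalize a ^ i * b ^ j * z ^ k = q
      rw [mul_inv_rev, inv_eq_of_mul_eq_one_right h.d2, mul_inv_rev, mul_inv_rev, inv_inv, ← h.da]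
      simp only [mul_assoc]
    rw [h2, conjq, mul_inv_rev, inv_inv] at h1
    have h3 : Commute (a * a) b := by
      have : a * a = z ^ j' * z ^ j := by
        calc a * a = z ^ j' * ((z ^ j')⁻¹ * a) * a := by rw [mul_inv_cancel_left]
          _ = z ^ j' * (a⁻¹ * z ^ j * a) := by rw [← h1]; simp only [mul_assoc]
          _ = z ^ j' * z ^ j := by rw [mul_assoc a⁻¹, (hza.pow_left j).eq, inv_mul_cancel_left]
      rw [this]; exact (hzb.pow_left _).mul_left (hzb.pow_left _)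
    have h5 : a = (a * a) * (a * a) := by
      calc a = a ^ 3 * a := by rw [h.a3, one_mul]
        _ = _ := by simp only [pow_succ, pow_zero, one_mul, mul_assoc]
    have h6 : Commute a b := by rw [h5]; exact h3.mul_left h3
    exact hnc (by rw [hz, h6.eq]; group)
  rintro ⟨⟨i, j⟩, k, l⟩ ⟨⟨i', j'⟩, k', l'⟩ he
  simp only [elt, ← hz] at he
  have hll : l = l' := by
    fin_cases l <;> fin_cases l' <;> simp_all
    all_goals first
      | exact nd _ _ _ _ _ _ he.symm
      | exact nd _ _ _ _ _ _ he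
  subst hll
  have he' := mul_right_cancel he
  have hj : j = j' := by
    refine hzinj _ _ ?_
    have h1 := congrArg (fun x => a * x * a⁻¹) he'
    simp only [conja] at h1
    rw [he'] at h1
    exact mul_right_cancel h1
  subst hj
  rw [mul_assoc _ _ (z ^ (k : ℕ)), mul_assoc _ _ (z ^ (k' : ℕ)),
    (((hzb.pow_left (k : ℕ)).pow_right (j : ℕ))).symm.eq,
    (((hzb.pow_left (k' : ℕ)).pow_right (j : ℕ))).symm.eq, ← mul_assoc, ← mul_assoc] at he'
  have he'' := mul_right_cancel he'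
  have hi : i = i' := by
    refine hzinj _ _ ?_
    have h1 := congrArg (fun x => b * x * b⁻¹) he''
    have e1 : ∀ n m : ℕ, b * (a ^ n * z ^ m) * b⁻¹ = z⁻¹ ^ n * (a ^ n * z ^ m) := fun n m => by
      calc b * (a ^ n * z ^ m) * b⁻¹ = (b * a ^ n * b⁻¹) * (b * z ^ m * b⁻¹) := by group
        _ = _ := by
          rw [conjb, (hzb.pow_left m).symm.eq, mul_inv_cancel_right, mul_assoc]
    simp only [e1] at h1
    rw [he''] at h1
    have h2 := mul_right_cancel h1
    rwa [inv_pow, inv_pow, inv_inj] at h2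
  subst hi
  rw [hzinj _ _ (mul_left_cancel he'')]

theorem Rel54.card_eq (h : Rel54 a b d) :
    Nat.card ↥(Subgroup.closure ({a, b, d} : Set M)) = 54 := by
  set S := Subgroup.closure ({a, b, d} : Set M)
  have ma : a ∈ S := Subgroup.subset_closure (by simp)
  have mb : b ∈ S := Subgroup.subset_closure (by simp)
  have md : d ∈ S := Subgroup.subset_closure (by simp)
  have hm : ∀ t, elt a b d t ∈ S := fun t =>
    mul_mem (mul_mem (mul_mem (pow_mem ma _) (pow_mem mb _)) (pow_mem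
      (mul_mem (mul_mem (mul_mem ma mb) (inv_mem ma)) (inv_mem mb)) _)) (pow_mem md _)
  let f : (Fin 3 × Fin 3) × Fin 3 × Fin 2 → S := fun t => ⟨elt a b d t, hm t⟩
  have hf : Function.Bijective f := by
    refine ⟨fun t t' he => h.elt_injective (congrArg Subtype.val he), fun x => ?_⟩
    obtain ⟨t, ht⟩ := h.mem_range x.2
    exact ⟨t, Subtype.ext ht⟩
  rw [← Nat.card_eq_of_bijective f hf]
  simp

theorem Rel54.map {N : Type*} [Group N] (h : Rel54 a b d) (f : M →* N)
    (hnc : f (a * b * a⁻¹ * b⁻¹) ≠ 1) : Rel54 (f a) (f b) (f d) where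
  a3 := by rw [← map_pow, h.a3, map_one]
  b3 := by rw [← map_pow, h.b3, map_one]
  d2 := by rw [← map_mul, h.d2, map_one]
  da := by rw [← map_mul, ← map_mul, h.da, map_inv]
  db := by rw [← map_mul, ← map_mul, h.db, map_inv]
  za := by simpa only [map_mul, map_inv] using h.za.map f
  zb := by simpa only [map_mul, map_inv] using h.zb.map f
  nc := by simpa only [map_mul, map_inv] using hnc

/-- Any two groups generated in this way are isomorphic. -/
theorem Rel54.nonempty_mulEquiv {M' : Type*} [Group M'] {a' b' d' : M'} (h : Rel54 a b d)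
    (h' : Rel54 a' b' d') :
    Nonempty (↥(Subgroup.closure ({a, b, d} : Set M)) ≃*
      ↥(Subgroup.closure ({a', b', d'} : Set M'))) := by
  have hp : Rel54 (a, a') (b, b') (d, d') :=
    ⟨Prod.ext h.a3 h'.a3, Prod.ext h.b3 h'.b3, Prod.ext h.d2 h'.d2, Prod.ext h.da h'.da,
      Prod.ext h.db h'.db, Prod.ext h.za h'.za, Prod.ext h.zb h'.zb,
      fun he => h.nc (congrArg Prod.fst he)⟩
  set R := Subgroup.closure ({(a, a'), (b, b'), (d, d')} : Set (M × M'))
  have e1 : R.map (MonoidHom.fst M M') = Subgroup.closure ({a, b, d} : Set M) := by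
    rw [MonoidHom.map_closure]; simp [Set.image_insert_eq]
  have e2 : R.map (MonoidHom.snd M M') = Subgroup.closure ({a', b', d'} : Set M') := by
    rw [MonoidHom.map_closure]; simp [Set.image_insert_eq]
  haveI : Finite R := Nat.finite_of_card_ne_zero (by rw [hp.card_eq]; norm_num)
  have hbij : ∀ (S : Subgroup R), S.index = 54 → S = ⊥ := by
    intro S hp54
    rw [← Subgroup.card_eq_one]
    have h1 := Subgroup.card_mul_index S
    rw [hp54, hp.card_eq] at h1
    omega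
  have i1 : Function.Injective ((MonoidHom.fst M M').comp R.subtype) := (MonoidHom.ker_eq_bot_iff _).1 (hbij _ (by
    rw [Subgroup.index_ker, MonoidHom.range_comp, Subgroup.range_subtype, e1, h.card_eq]))
  have i2 : Function.Injective ((MonoidHom.snd M M').comp R.subtype) := (MonoidHom.ker_eq_bot_iff _).1 (hbij _ (by
    rw [Subgroup.index_ker, MonoidHom.range_comp, Subgroup.range_subtype, e2, h'.card_eq]))
  exact ⟨((MulEquiv.subgroupCongr (by rw [MonoidHom.range_comp, Subgroup.range_subtype, e1])).symm.trans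
      (MonoidHom.ofInjective i1).symm).trans
    ((MonoidHom.ofInjective i2).trans
      (MulEquiv.subgroupCongr (by rw [MonoidHom.range_comp, Subgroup.range_subtype, e2])))⟩

end Cfsg.Agent.Fischer3U32
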