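import Cfsg.Agent.Lib.Invol.U32
import Cfsg.Agent.Lib.Fischer3U32.Rel54

/-!
# The derived group of the three-dimensional unitary group over the field with four members
-/

set_option autoImplicit false

namespace Cfsg.Agent.Fischer3U32

open Matrix U32

variable {F : Type*} [Field F] [Fintype F]

theorem card_commutator_quaternion : Nat.card (commutator (QuaternionGroup 2)) ≤ 2 := by
  have key : ∀ x y : QuaternionGroup 2, x * y * x⁻¹ * y⁻¹ = 1 ∨
      x * y * x⁻¹ * y⁻¹ = QuaternionGroup.a 2 := by decide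
  have hle : commutator (QuaternionGroup 2) ≤ Subgroup.zpowers (QuaternionGroup.a 2) := by
    rw [commutator_def, Subgroup.commutator_le]
    intro x _ y _
    rw [commutatorElement_def]
    rcases key x y with h | h <;> rw [h]
    exacts [one_mem _, Subgroup.mem_zpowers _]
  refine (Nat.le_of_dvd Nat.card_pos (Subgroup.card_dvd_of_le hle)).trans ?_
  rw [Nat.card_zpowers]
  exact Nat.le_of_dvd (by norm_num) (orderOf_dvd_of_pow_eq_one (by decide))

theorem scalar_of_commute {w : F} (hw0 : w ≠ 0) (hw1 : w ≠ 1) (X : Matrix (Fin 3) (Fin 3) F)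
    (hA : X * mA w = mA w * X) (hB : X * mB w = mB w * X) :
    X = X 0 0 • (1 : Matrix (Fin 3) (Fin 3) F) := by
  have off : ∀ u p q : F, u * p = q * u → p ≠ q → u = 0 := fun u p q h hpq =>
    (mul_eq_zero.1 (show u * (p - q) = 0 by linear_combination h)).resolve_right (sub_ne_zero.2 hpq)
  have e := fun r s => congrFun (congrFun hA r) s
  have f := fun r s => congrFun (congrFun hB r) s
  have hdiag : ∀ r s, X r s * ![1, w, w + 1] s = ![1, w, w + 1] r * X r s := fun r s => by
    have := e r s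
    fin_cases r <;> fin_cases s <;> simp [mA, Matrix.mul_apply, Fin.sum_univ_three] at this ⊢ <;>
      exact this
  have h01 : X 0 1 = 0 := off _ _ _ (hdiag 0 1) (by simpa using hw1)
  have h02 : X 0 2 = 0 := off _ _ _ (hdiag 0 2) (by simpa using hw0)
  have h10 : X 1 0 = 0 := off _ _ _ (hdiag 1 0) (by simpa using Ne.symm hw1)
  have h12 : X 1 2 = 0 := off _ _ _ (hdiag 1 2) (by simp)
  have h20 : X 2 0 = 0 := off _ _ _ (hdiag 2 0) (by simpa using hw0)
  have h21 : X 2 1 = 0 := off _ _ _ (hdiag 2 1) (by simp)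
  have d1 := f 1 0
  have d2 := f 2 1
  simp [mB, Matrix.mul_apply, Fin.sum_univ_three] at d1 d2
  ext r s
  fin_cases r <;> fin_cases s <;> simp [h01, h02, h10, h12, h20, h21] <;> grind

set_option maxHeartbeats 1000000 in
theorem exists_model (hF : Fintype.card F = 4) :
    ∃ a b d : ↥(Cfsg.SU 3 F 2), Rel54 a b d ∧
      Subgroup.closure ({a, b, d} : Set ↥(Cfsg.SU 3 F 2)) = commutator ↥(Cfsg.SU 3 F 2) := by
  classical
  obtain ⟨w, hw, h2⟩ := exists_omega hF
  have hw0 : w ≠ 0 := fun h => by rw [h] at hw; simp at hw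
  have hw1 : w ≠ 1 := fun h => by rw [h] at hw; simp at hw
  have hw2 : w * (w + 1) = 1 := by linear_combination hw + w * h2
  let A : ↥(Cfsg.SU 3 F 2) := ⟨⟨mA w, mA_det hw h2⟩, mA_herm hw h2⟩
  let B : ↥(Cfsg.SU 3 F 2) := ⟨⟨mB w, mB_det hw h2⟩, mB_herm hw h2⟩
  let I : ↥(Cfsg.SU 3 F 2) := ⟨⟨mM w, mM_det hw h2⟩, mM_herm hw h2⟩
  let J : ↥(Cfsg.SU 3 F 2) := ⟨⟨mJ w, mJ_det hw h2⟩, mJ_herm hw h2⟩
  let mat : ↥(Cfsg.SU 3 F 2) → Matrix (Fin 3) (Fin 3) F := fun x =>
    ((x : Matrix.SpecialLinearGroup (Fin 3) F) : Matrix (Fin 3) (Fin 3) F)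
  have mmul : ∀ x y, mat (x * y) = mat x * mat y := fun x y => by
    simp [mat, Matrix.SpecialLinearGroup.coe_mul]
  have minj : ∀ x y, mat x = mat y → x = y := fun x y h => Subtype.ext (Subtype.ext h)
  have hA3 : A ^ 3 = 1 := minj _ _ (by simpa [mat] using mA_three hw h2)
  have hB3 : B ^ 3 = 1 := minj _ _ (by simpa [mat] using mB_three w)
  have hI4 : I ^ 4 = 1 := minj _ _ (by simpa [mat] using mM_four hw h2)
  have eIA : I * A = B * B * I := minj _ _ (by
    rw [mmul, mmul, mmul]; exact (rel_ia hw h2).trans (one_smul _ _))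
  have eIB : I * B = A * I := minj _ _ (by
    rw [mmul, mmul]; exact (rel_ib hw h2).trans (one_smul _ _))
  have eJI : J * I = I * I * I * J := minj _ _ (by
    rw [mmul, mmul, mmul, mmul]; exact (rel_ji hw h2).trans (one_smul _ _))
  -- the commutator of `A` and `B` is scalar
  obtain ⟨z, hz⟩ : ∃ z, z = A * B * A⁻¹ * B⁻¹ := ⟨_, rfl⟩
  have hzmat : mat z = w • (1 : Matrix (Fin 3) (Fin 3) F) := by
    have h1 : z * (B * A) = A * B := by rw [hz]; group
    have h3 : mat z * ((w + 1) • (mA w * mB w)) = mA w * mB w := by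
      rw [← rel_ba hw h2]
      have := congrArg mat h1
      rw [mmul, mmul, mmul] at this
      exact this
    have hu : IsUnit (mA w * mB w).det := by
      rw [Matrix.det_mul, mA_det hw h2, mB_det hw h2, one_mul]; exact isUnit_one
    have h4 := congrArg (fun X => w • (X * (mA w * mB w)⁻¹)) h3
    simp only [Matrix.mul_smul, Matrix.smul_mul, smul_smul, hw2, one_smul, Matrix.mul_assoc,
      Matrix.mul_nonsing_inv _ hu, Matrix.mul_one] at h4
    exact h4
  have hzc : ∀ x, Commute z x := fun x => minj _ _ (by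
    rw [mmul, mmul, hzmat, Matrix.smul_mul, Matrix.mul_smul, Matrix.one_mul, Matrix.mul_one])
  have hz1 : z ≠ 1 := fun h => hw1 (by
    have := congrArg (fun X : Matrix (Fin 3) (Fin 3) F => X 0 0) (hzmat.symm.trans (congrArg mat h))
    simpa [mat] using this)
  have hII : (I * I) * (I * I) = 1 := by
    rw [← hI4]; simp only [pow_succ, pow_zero, one_mul, mul_assoc]
  have hIAI : I * A * I⁻¹ = B * B := by rw [eIA, mul_inv_cancel_right]
  have hIBI : I * B * I⁻¹ = A := by rw [eIB, mul_inv_cancel_right]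
  have hIIi : (I * I)⁻¹ = I * I := inv_eq_of_mul_eq_one_right hII
  have hAi : A⁻¹ = A * A := inv_eq_of_mul_eq_one_right (by rw [← hA3, pow_three])
  have hBi : B⁻¹ = B * B := inv_eq_of_mul_eq_one_right (by rw [← hB3, pow_three])
  have hrel : Rel54 A B (I * I) := by
    refine ⟨hA3, hB3, hII, ?_, ?_, hz ▸ hzc A, hz ▸ hzc B, hz ▸ hz1⟩
    · calc I * I * A * (I * I) = I * I * A * (I * I)⁻¹ := by rw [hIIi]
        _ = I * (I * A * I⁻¹) * I⁻¹ := by group
        _ = (I * B * I⁻¹) * (I * B * I⁻¹) := by rw [hIAI]; group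
        _ = A⁻¹ := by rw [hIBI, hAi]
    · calc I * I * B * (I * I) = I * I * B * (I * I)⁻¹ := by rw [hIIi]
        _ = I * (I * B * I⁻¹) * I⁻¹ := by group
        _ = B⁻¹ := by rw [hIBI, hIAI, hBi]
  refine ⟨A, B, I * I, hrel, ?_⟩
  have hmemc : ∀ x y : ↥(Cfsg.SU 3 F 2), x * y * x⁻¹ * y⁻¹ ∈ commutator ↥(Cfsg.SU 3 F 2) := fun x y => by
    rw [← commutatorElement_def]; exact Subgroup.commutator_mem_commutator trivial trivial
  have hBm : B ∈ commutator ↥(Cfsg.SU 3 F 2) := by
    have h1 := mul_mem (hmemc I A) (hmemc I B)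
    rw [hIAI, hIBI, show B * B * A⁻¹ * (A * B⁻¹) = B by group] at h1
    exact h1
  have hAm : A ∈ commutator ↥(Cfsg.SU 3 F 2) := by
    have h1 := mul_mem (hmemc I B) hBm
    rwa [hIBI, inv_mul_cancel_right] at h1
  have hDm : I * I ∈ commutator ↥(Cfsg.SU 3 F 2) := by
    have h1 := hmemc J I
    rwa [eJI, mul_inv_cancel_right, mul_inv_cancel_right] at h1
  have hle : Subgroup.closure ({A, B, I * I} : Set ↥(Cfsg.SU 3 F 2)) ≤
      commutator ↥(Cfsg.SU 3 F 2) := by
    rw [Subgroup.closure_le]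
    rintro x (rfl | rfl | rfl) <;> assumption
  refine Subgroup.eq_of_le_of_card_ge hle ?_
  rw [hrel.card_eq]
  -- the upper bound through the quotient of order eight
  obtain ⟨N, hN, hN9, -, ⟨e⟩⟩ := structure_u32 hF
  have hcen : Nat.card (Subgroup.center ↥(Cfsg.SU 3 F 2)) ≤ 3 := by
    have hsc : ∀ x ∈ Subgroup.center ↥(Cfsg.SU 3 F 2),
        ∃ c : F, c ^ 3 = 1 ∧ mat x = c • (1 : Matrix (Fin 3) (Fin 3) F) := by
      intro x hx
      have hxA : mat x * mA w = mA w * mat x := by
        have := congrArg mat (Subgroup.mem_center_iff.1 hx A)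
        rw [mmul, mmul] at this
        exact this.symm
      have hxB : mat x * mB w = mB w * mat x := by
        have := congrArg mat (Subgroup.mem_center_iff.1 hx B)
        rw [mmul, mmul] at this
        exact this.symm
      have hsm : mat x = mat x 0 0 • (1 : Matrix (Fin 3) (Fin 3) F) :=
        scalar_of_commute hw0 hw1 _ hxA hxB
      refine ⟨mat x 0 0, ?_, hsm⟩
      have hdet : (mat x).det = 1 := (x : Matrix.SpecialLinearGroup (Fin 3) F).2
      rw [hsm, Matrix.det_smul, Matrix.det_one, mul_one, Fintype.card_fin] at hdet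
      exact hdet
    choose c hc hm using hsc
    let f : Subgroup.center ↥(Cfsg.SU 3 F 2) → ↥((Finset.univ : Finset F).erase 0) := fun x =>
      ⟨c x.1 x.2, Finset.mem_erase.2 ⟨fun h0 => by
        have := hc x.1 x.2
        rw [h0] at this
        simp at this, Finset.mem_univ _⟩⟩
    refine (Nat.card_le_card_of_injective f fun x y he => Subtype.ext (minj _ _ ?_)).trans ?_
    · rw [hm x.1 x.2, hm y.1 y.2, show c x.1 x.2 = c y.1 y.2 from congrArg Subtype.val he]
    · rw [Nat.card_eq_fintype_card, Fintype.card_coe, Finset.card_erase_of_mem (Finset.mem_univ _),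
        Finset.card_univ, hF]
  let π : ↥(Cfsg.SU 3 F 2) →* Cfsg.PSU 3 F 2 := QuotientGroup.mk' _
  let φ : Cfsg.PSU 3 F 2 →* QuaternionGroup 2 := e.toMonoidHom.comp (QuotientGroup.mk' N)
  set C := commutator ↥(Cfsg.SU 3 F 2) with hC
  let ρ : ↥C →* QuaternionGroup 2 := (φ.comp π).comp C.subtype
  have himg : Nat.card ρ.range ≤ 2 := by
    refine le_trans (Nat.le_of_dvd Nat.card_pos (Subgroup.card_dvd_of_le ?_))
      card_commutator_quaternion
    rw [MonoidHom.range_comp, Subgroup.range_subtype, hC, commutator_def, Subgroup.map_commutator,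
      commutator_def]
    exact Subgroup.commutator_mono le_top le_top
  have hker : Nat.card ρ.ker ≤ 27 := by
    have hle' : ρ.ker.map C.subtype ≤ N.comap π := by
      rintro _ ⟨x, hx, rfl⟩
      exact Subgroup.mem_comap.2 ((QuotientGroup.eq_one_iff _).1 (e.map_eq_one_iff.1 hx))
    rw [← Subgroup.card_map_of_injective C.subtype_injective]
    refine (Nat.le_of_dvd Nat.card_pos (Subgroup.card_dvd_of_le hle')).trans ?_
    have h1 := Subgroup.card_mul_index (Subgroup.center ↥(Cfsg.SU 3 F 2))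
    have h2 := Subgroup.card_mul_index (N.comap π)
    rw [Subgroup.index_comap_of_surjective _ (QuotientGroup.mk'_surjective _)] at h2
    have h3 := Subgroup.card_mul_index N
    have h4 : (Subgroup.center ↥(Cfsg.SU 3 F 2)).index = Nat.card (Cfsg.PSU 3 F 2) := rfl
    rw [hN9] at h3
    rw [h4, ← h3] at h1
    have hpos : 0 < N.index := Nat.pos_of_ne_zero N.index_ne_zero_of_finite
    have h5 : Nat.card (N.comap π) = Nat.card (Subgroup.center ↥(Cfsg.SU 3 F 2)) * 9 :=
      Nat.eq_of_mul_eq_mul_right hpos (by rw [h2, ← h1, mul_assoc])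
    omega
  have hmul := Subgroup.card_mul_index ρ.ker
  rw [Subgroup.index_ker] at hmul
  calc Nat.card C = Nat.card ρ.ker * Nat.card ρ.range := hmul.symm
    _ ≤ 27 * 2 := Nat.mul_le_mul hker himg
    _ = 54 := by norm_num

end Cfsg.Agent.Fischer3U32
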