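import Cfsg.Agent.Lib.Fischer3.PerpClass
import Cfsg.Agent.Lib.Fischer3.Central
import Cfsg.Agent.Lib.Basics.CoprimeGen
import Cfsg.Agent.Lib.Components.FStar
import Cfsg.Agent.Lib.FGB.SameOrderConj
import Cfsg.Agent.Lib.Fischer3U32.Rel54

/-!
# Classes of 3-transpositions above a self-centralising 2-core with a normal Sylow 3-quotient
-/

set_option autoImplicit false

namespace Cfsg.Agent.Fischer3U32

open Cfsg ClassK Fischer3 Basics

universe u

variable {H : Type u} [Group H] [Finite H]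

theorem abelian_closure {M : Type*} [Group M] {S : Set M}
    (hS : ∀ x ∈ S, ∀ y ∈ S, x * y = y * x) :
    ∀ x ∈ Subgroup.closure S, ∀ y ∈ Subgroup.closure S, x * y = y * x := by
  intro x hx y hy
  have h1 : Subgroup.closure S ≤ Subgroup.centralizer S := (Subgroup.closure_le _).2 fun a ha =>
    Subgroup.mem_centralizer_iff.2 fun b hb => hS b hb a ha
  have h2 : Subgroup.closure S ≤ Subgroup.centralizer (Subgroup.closure S : Set M) :=
    (Subgroup.closure_le _).2 fun a ha => Subgroup.mem_centralizer_iff.2 fun b hb =>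
      (Subgroup.mem_centralizer_iff.1 (h1 hb) a ha).symm
  exact (Subgroup.mem_centralizer_iff.1 (h2 hx) y hy).symm

theorem isMulCommutative_of {M : Type*} [Group M] (A : Subgroup M)
    (h : ∀ x ∈ A, ∀ y ∈ A, x * y = y * x) : IsMulCommutative A :=
  ⟨⟨fun x y => Subtype.ext (h x x.2 y y.2)⟩⟩

/-- Commuting members agree modulo the 2-core. -/
theorem mul_mem_of_commute' {E : Set H} (hE : IsThreeTranspositionClass E)
    (h232 : ∃ P : Sylow 3 (H ⧸ Cfsg.pCore 2 H), (P : Subgroup (H ⧸ Cfsg.pCore 2 H)).Normal ∧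
      ∃ k : ℕ, (P : Subgroup (H ⧸ Cfsg.pCore 2 H)).index = 2 ^ k) :
    ∀ a ∈ E, ∀ b ∈ E, Commute a b → a * b ∈ Cfsg.pCore 2 H := by
  obtain ⟨P, hPn, k, hk⟩ := h232
  have hG := class_group hE
  set Q := Cfsg.pCore 2 H
  let f : H →* (H ⧸ Q) ⧸ (P : Subgroup (H ⧸ Q)) :=
    (QuotientGroup.mk' (P : Subgroup (H ⧸ Q))).comp (QuotientGroup.mk' Q)
  have hf : Function.Surjective f :=
    (QuotientGroup.mk'_surjective _).comp (QuotientGroup.mk'_surjective _)
  have h2 : IsPGroup 2 ((H ⧸ Q) ⧸ (P : Subgroup (H ⧸ Q))) :=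
    IsPGroup.of_card (by rw [← Subgroup.index_eq_card]; exact hk)
  have hc : ∀ a ∈ E, ∀ b ∈ E, f a * f b = f b * f a := by
    intro a ha b hb
    rcases hG.1.2 a ha b hb with h | h
    · exact ((tt_commute_iff hG.1 ha hb).2 h).map f
    · have h3 : f (a * b) ^ 3 = 1 := by rw [← map_pow, h, map_one]
      obtain ⟨m, hm⟩ := h2 (f (a * b))
      have : f (a * b) = 1 := orderOf_eq_one_iff.1 (Nat.eq_one_of_dvd_coprimes
        ((Nat.Coprime.pow_left m (by norm_num : Nat.Coprime 2 3))) (orderOf_dvd_of_pow_eq_one hm)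
        (orderOf_dvd_of_pow_eq_one h3))
      rw [map_mul] at this
      rw [eq_inv_of_mul_eq_one_left this, inv_mul_cancel, mul_inv_cancel]
  have hab : ∀ x y, f x * f y = f y * f x := by
    intro x y
    refine abelian_closure (S := f '' E) ?_ _ ?_ _ ?_
    · rintro _ ⟨a, ha, rfl⟩ _ ⟨b, hb, rfl⟩; exact hc a ha b hb
    all_goals
      rw [← MonoidHom.map_closure, hG.2.2]
      exact ⟨_, trivial, rfl⟩
  intro a ha b hb hcm
  obtain ⟨g, rfl⟩ := class_exists_conj hE ha hb
  have h1 : f (a * (g * a * g⁻¹)) = 1 := by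
    rw [map_mul, map_mul, map_mul, map_inv, hab g a, mul_inv_cancel_right, ← map_mul,
      tt_mul_self hG.1 ha, map_one]
  have hmem : QuotientGroup.mk' Q (a * (g * a * g⁻¹)) ∈ (P : Subgroup (H ⧸ Q)) :=
    (QuotientGroup.eq_one_iff _).1 h1
  refine (QuotientGroup.eq_one_iff _).1 (?_ : QuotientGroup.mk' Q (a * (g * a * g⁻¹)) = 1)
  exact eq_one_of_isPGroup P.isPGroup' (n := 2) (by norm_num) hmem (by
    rw [← map_pow, (tt_commute_iff hG.1 ha hb).1 hcm, map_one])

/-- The working hypotheses. -/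
structure Setup (E : Set H) (Q P : Subgroup H) (d : H) : Prop where
  tt : IsThreeTranspositionGroup E
  cls : ∀ e ∈ E, ∃ g, e = g * d * g⁻¹
  mem : d ∈ E
  hQ : IsPGroup 2 Q
  normalQ : Q.Normal
  hP : IsPGroup 3 P
  faith : Subgroup.centralizer (Q : Set H) ≤ Q
  norm : ∀ p ∈ P, d * p * d ∈ P
  notQ : d ∉ Q
  span : ∀ h : H, ∃ p ∈ P, ∃ q ∈ Q, h = p * q ∨ h = d * p * q

variable {E : Set H} {Q P : Subgroup H} {d : H}

/-- The members of `P` inverted by `d`. -/
def invSet (P : Subgroup H) (d : H) : Set H := {a | a ∈ P ∧ d * a * d = a⁻¹}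

theorem Setup.inter (s : Setup E Q P d) {x : H} (hx : x ∈ P) (hx' : x ∈ Q) : x = 1 :=
  Subgroup.disjoint_def.1 (IsPGroup.disjoint_of_ne 3 2 (by norm_num) P Q s.hP s.hQ) hx hx'

theorem Setup.dd (s : Setup E Q P d) : d * d = 1 := tt_mul_self s.tt.1 s.mem

theorem Setup.dmul (s : Setup E Q P d) (x y : H) : d * (x * y) * d = (d * x * d) * (d * y * d) := by
  simp only [mul_assoc]
  rw [← mul_assoc d d, s.dd, one_mul]

theorem Setup.dpow (s : Setup E Q P d) (x : H) (n : ℕ) : d * x ^ n * d = (d * x * d) ^ n := by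
  induction n with
  | zero => simp [s.dd]
  | succ n ih => rw [pow_succ, s.dmul, ih, pow_succ]

theorem Setup.dinv (s : Setup E Q P d) (x : H) : d * x⁻¹ * d = (d * x * d)⁻¹ := by
  rw [mul_inv_rev, mul_inv_rev, tt_inv s.tt.1 s.mem, mul_assoc]

theorem Setup.inv_mem' (s : Setup E Q P d) {a : H} (ha : a ∈ invSet P d) : a⁻¹ ∈ invSet P d :=
  ⟨inv_mem ha.1, by rw [s.dinv, ha.2]⟩

theorem Setup.ddd (s : Setup E Q P d) (x : H) : d * (d * x * d) * d = x := by
  rw [show d * (d * x * d) * d = (d * d) * x * (d * d) by simp only [mul_assoc], s.dd, one_mul,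
    mul_one]

theorem Setup.twist (s : Setup E Q P d) {c : H} (hc : c ∈ P) : c⁻¹ * (d * c * d) ∈ invSet P d := by
  refine ⟨mul_mem (inv_mem hc) (s.norm c hc), ?_⟩
  calc d * (c⁻¹ * (d * c * d)) * d = (d * c⁻¹ * d) * (d * (d * c * d) * d) := s.dmul _ _
    _ = (d * c * d)⁻¹ * c := by rw [s.dinv, s.ddd]
    _ = (c⁻¹ * (d * c * d))⁻¹ := by rw [mul_inv_rev (c⁻¹), inv_inv]

theorem Setup.mem_E (s : Setup E Q P d) {a : H} (ha : a ∈ invSet P d) : d * a ∈ E := by
  obtain ⟨m, hm⟩ := s.hP ⟨a, ha.1⟩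
  have hm' : a ^ 3 ^ m = 1 := congrArg Subtype.val hm
  obtain ⟨l, hl⟩ : Odd (3 ^ m) := Odd.pow (by decide)
  set b := a ^ (l + 1) with hb
  have hbb : b * b = a := by
    rw [hb, ← pow_add, show l + 1 + (l + 1) = 3 ^ m + 1 by omega, pow_succ, hm', one_mul]
  have hdb : d * b * d = b⁻¹ := by rw [hb, s.dpow, ha.2, inv_pow]
  have : b⁻¹ * d * b = d * a := by
    rw [← hdb, ← hbb]; simp only [mul_assoc]; rw [← mul_assoc d d, s.dd, one_mul]
  rw [← this]
  simpa using s.tt.2.1 b⁻¹ d s.mem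

theorem Setup.pow_three (s : Setup E Q P d) {a : H} (ha : a ∈ invSet P d) : a ^ 3 = 1 := by
  have he := s.mem_E ha
  have hde : d * (d * a) = a := by rw [← mul_assoc, s.dd, one_mul]
  rcases s.tt.1.2 d s.mem (d * a) he with h | h <;> rw [hde] at h
  · rw [eq_one_of_isPGroup s.hP (n := 2) (by norm_num) ha.1 h, one_pow]
  · exact h

theorem Setup.fixed (s : Setup E Q P d) {a q : H} (ha : a ∈ invSet P d) (ha1 : a ≠ 1)
    (hq : q ∈ Q) (hqa : Commute q a) : Commute q d := by
  haveI := s.normalQ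
  have hdd := s.dd
  have hdi := tt_inv s.tt.1 s.mem
  set v := q * d * q⁻¹ * d with hv
  have hvQ : v ∈ Q := by
    have := mul_mem hq (s.normalQ.conj_mem _ (inv_mem hq) d)
    rw [hdi] at this
    simpa only [hv, mul_assoc] using this
  have hva : Commute v a := by
    have h1 : Commute (d * q⁻¹ * d⁻¹) (d * a⁻¹ * d⁻¹) :=
      Fischer3.commute_conj d hqa.inv_left.inv_right
    rw [hdi, s.dinv a, ha.2, inv_inv] at h1
    rw [hv, show q * d * q⁻¹ * d = q * (d * q⁻¹ * d) by simp only [mul_assoc]]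
    exact hqa.mul_left h1
  have hd' : q * d * q⁻¹ ∈ E := s.tt.2.1 q d s.mem
  have heq : q * d * q⁻¹ * (d * a) = v * a := by rw [hv]; simp only [mul_assoc]
  rcases s.tt.1.2 _ hd' _ (s.mem_E ha) with h | h <;> rw [heq, hva.mul_pow] at h
  · exfalso
    have h2 : a ^ 2 = 1 := by
      refine s.inter (pow_mem ha.1 2) ?_
      rw [eq_inv_of_mul_eq_one_right h]
      exact inv_mem (pow_mem hvQ 2)
    exact ha1 (eq_one_of_isPGroup s.hP (n := 2) (by norm_num) ha.1 h2)
  · rw [s.pow_three ha, mul_one] at h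
    have hv1 : v = 1 := eq_one_of_isPGroup s.hQ (n := 3) (by norm_num) hvQ h
    rw [hv] at hv1
    have h3 := eq_inv_of_mul_eq_one_left hv1
    rw [hdi] at h3
    calc q * d = q * d * q⁻¹ * q := by rw [inv_mul_cancel_right]
      _ = d * q := by rw [h3]

theorem Setup.not_all_commute (s : Setup E Q P d) : ¬ ∀ q ∈ Q, Commute q d := fun h =>
  s.notQ (s.faith (Subgroup.mem_centralizer_iff.2 fun q hq => (h q hq).eq))

/-- The fixed members of `Q` of the commutator of two inverted members centralise `d`. -/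
theorem Setup.fixed_commutator (s : Setup E Q P d) {w u : H} (hw : w ∈ invSet P d)
    (hu : u ∈ invSet P d) (hu1 : u ≠ 1) (hwu : w ∉ Subgroup.zpowers u)
    (hzw : Commute (w * u * w⁻¹ * u⁻¹) w) (hzu : Commute (w * u * w⁻¹ * u⁻¹) u) :
    ∀ q ∈ Q, Commute q (w * u * w⁻¹ * u⁻¹) → Commute q d := by
  haveI : Fact (Nat.Prime 3) := ⟨Nat.prime_three⟩
  haveI : Fact (Nat.Prime 2) := ⟨Nat.prime_two⟩
  intro q hq hqz
  obtain ⟨z, hz⟩ : ∃ z, z = w * u * w⁻¹ * u⁻¹ := ⟨_, rfl⟩
  rw [← hz] at hzw hzu hqz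
  have hzP : z ∈ P := hz ▸ mul_mem (mul_mem (mul_mem hw.1 hu.1) (inv_mem hw.1)) (inv_mem hu.1)
  set C := Subgroup.centralizer ({z} : Set H) with hC
  have hmC : ∀ x, Commute z x → x ∈ C := fun x hx =>
    Subgroup.mem_centralizer_singleton_iff.2 hx.symm.eq
  let zC : C := ⟨z, hmC z (Commute.refl z)⟩
  haveI hZn : (Subgroup.zpowers zC).Normal := ⟨fun x hx g => by
    obtain ⟨k, rfl⟩ := Subgroup.mem_zpowers_iff.1 hx
    have hc : Commute zC g := Subtype.ext (Subgroup.mem_centralizer_singleton_iff.1 g.2).symm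
    rw [← (hc.zpow_left k).eq, mul_inv_cancel_right]
    exact hx⟩
  let π := QuotientGroup.mk' (Subgroup.zpowers zC)
  have hwC : w ∈ C := hmC w hzw
  have huC : u ∈ C := hmC u hzu
  have hqC : q ∈ C := hmC q hqz.symm
  set W := π ⟨w, hwC⟩ with hWdef
  set U := π ⟨u, huC⟩ with hUdef
  have hWU : W * U = U * W := by
    have h1 : π (⟨w, hwC⟩ * ⟨u, huC⟩ * (⟨w, hwC⟩ : C)⁻¹ * (⟨u, huC⟩ : C)⁻¹) = 1 := by
      refine (QuotientGroup.eq_one_iff _).2 ?_
      rw [show (⟨w, hwC⟩ * ⟨u, huC⟩ * (⟨w, hwC⟩ : C)⁻¹ * (⟨u, huC⟩ : C)⁻¹ : C) = zC from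
        Subtype.ext hz.symm]
      exact Subgroup.mem_zpowers _
    simp only [map_mul, map_inv] at h1
    calc W * U = (W * U * W⁻¹ * U⁻¹) * (U * W) := by group
      _ = U * W := by rw [h1, one_mul]
  set A := Subgroup.closure ({W, U} : Set (C ⧸ Subgroup.zpowers zC))
  haveI : IsMulCommutative A := isMulCommutative_of A (abelian_closure (by
    intro x hx y hy
    simp only [Set.mem_insert_iff, Set.mem_singleton_iff] at hx hy
    rcases hx with hx | hx <;> rcases hy with hy | hy <;> rw [hx, hy]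
    exacts [hWU, hWU.symm]))
  set K := (Q.subgroupOf C).map π with hK
  haveI := s.normalQ
  haveI hKn : K.Normal := Subgroup.Normal.map inferInstance π (QuotientGroup.mk'_surjective _)
  have hAP : A ≤ (P.subgroupOf C).map π := by
    rw [Subgroup.closure_le]
    rintro x (rfl | rfl)
    exacts [⟨_, hw.1, rfl⟩, ⟨_, hu.1, rfl⟩]
  have hA3 : IsPGroup 3 A := ((s.hP.comap_of_injective C.subtype Subtype.val_injective).map π).to_le hAP
  have hK2 : IsPGroup 2 K := (s.hQ.comap_of_injective C.subtype Subtype.val_injective).map π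
  have hcop : (Nat.card A).Coprime (Nat.card K) := IsPGroup.coprime_card_of_ne 3 2 (by norm_num) A K hA3 hK2
  have hpK : Nat.Coprime 3 (Nat.card K) := by
    obtain ⟨m, hm⟩ := IsPGroup.iff_card.1 hK2
    rw [hm]; exact Nat.Coprime.pow_right m (by norm_num)
  have h3 : ∀ a : H, ∀ ha : a ∈ C, a ∈ invSet P d →
      π ⟨a, ha⟩ ^ 3 ∈ Subgroup.centralizer (K : Set (C ⧸ Subgroup.zpowers zC)) := by
    intro a ha haI
    rw [← map_pow, show (⟨a, ha⟩ : C) ^ 3 = 1 from Subtype.ext (s.pow_three haI), map_one]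
    exact one_mem _
  set T := ((Q ⊓ Subgroup.centralizer ({d} : Set H)).subgroupOf C).map π with hT
  -- a member of `K` fixed by the image of an inverted member comes from a member fixed by `d`
  have key : ∀ g : H, ∀ hg : g ∈ C, g ∈ invSet P d → g ≠ 1 →
      K ⊓ Subgroup.centralizer {π ⟨g, hg⟩} ≤ T := by
    intro g hg hgI hg1 k hk
    obtain ⟨⟨⟨x, hxC⟩, hx, rfl⟩, hkc⟩ := hk
    replace hkc := Subgroup.mem_centralizer_singleton_iff.1 hkc
    have hc1 : π (⟨g, hg⟩ * ⟨x, hxC⟩ * (⟨g, hg⟩ : C)⁻¹ * (⟨x, hxC⟩ : C)⁻¹) = 1 := by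
      simp only [map_mul, map_inv]
      rw [← hkc, mul_inv_cancel_right, mul_inv_cancel]
    have hmem : g * x * g⁻¹ * x⁻¹ ∈ Subgroup.zpowers z := by
      obtain ⟨k, hk⟩ := Subgroup.mem_zpowers_iff.1 ((QuotientGroup.eq_one_iff _).1 hc1)
      exact Subgroup.mem_zpowers_iff.2 ⟨k, by
        have := congrArg Subtype.val hk
        simpa [zC] using this⟩
    have hxg : Commute x g := by
      have h1 : g * x * g⁻¹ * x⁻¹ = 1 := s.inter ((Subgroup.zpowers_le.2 hzP) hmem)
        (mul_mem (s.normalQ.conj_mem x hx g) (inv_mem hx))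
      calc x * g = (g * x * g⁻¹ * x⁻¹)⁻¹ * (g * x) := by group
        _ = g * x := by rw [h1, inv_one, one_mul]
    exact ⟨⟨x, hxC⟩, ⟨hx, Subgroup.mem_centralizer_singleton_iff.2 (s.fixed hgI hg1 hx hxg).eq⟩, rfl⟩
  have hgen : genCent W U K ≤ T := by
    refine sup_le (iSup_le fun j => ?_) (key u huC hu hu1)
    set v := u ^ (2 * j) * w * u ^ (2 * j) with hv
    have hvC : v ∈ C := mul_mem (mul_mem (pow_mem huC _) hwC) (pow_mem huC _)
    have hvI : v ∈ invSet P d := by
      refine ⟨mul_mem (mul_mem (pow_mem hu.1 _) hw.1) (pow_mem hu.1 _), ?_⟩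
      rw [hv, s.dmul, s.dmul, s.dpow, hu.2, hw.2]
      group
    have hv1 : v ≠ 1 := fun h => hwu (by
      have : w = (u ^ (2 * j))⁻¹ * (u ^ (2 * j))⁻¹ := by
        rw [← mul_inv_rev, eq_inv_iff_mul_eq_one, ← mul_assoc]
        rw [hv] at h
        calc w * u ^ (2 * j) * u ^ (2 * j)
            = (u ^ (2 * j))⁻¹ * (u ^ (2 * j) * w * u ^ (2 * j)) * u ^ (2 * j) := by group
          _ = 1 := by rw [h, mul_one, inv_mul_cancel]
      rw [this]
      exact mul_mem (inv_mem (pow_mem (Subgroup.mem_zpowers u) _))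
        (inv_mem (pow_mem (Subgroup.mem_zpowers u) _)))
    have himg : π ⟨v, hvC⟩ = W * U ^ j := by
      have e : (⟨v, hvC⟩ : C) = (⟨u, huC⟩ : C) ^ (2 * j) * ⟨w, hwC⟩ * (⟨u, huC⟩ : C) ^ (2 * j) :=
        Subtype.ext (by simp [hv])
      rw [e, map_mul, map_mul, map_pow, ← hWdef, ← hUdef,
        ((show Commute W U from hWU).pow_right (2 * j)).symm.eq, mul_assoc, ← pow_add,
        show 2 * j + 2 * j = 3 * j + j by ring, pow_add, pow_mul]
      have : U ^ 3 = 1 := by
        rw [hUdef, ← map_pow, show (⟨u, huC⟩ : C) ^ 3 = 1 from Subtype.ext (s.pow_three hu), map_one]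
      rw [this, one_pow, one_mul]
    rw [← himg]
    exact key v hvC hvI hv1
  have hle := (le_genCent A 3 W U (Subgroup.subset_closure (by simp)) (Subgroup.subset_closure (by simp))
    K (by rw [Subgroup.normalizer_eq_top_iff.2 hKn]; exact le_top) hcop hpK (h3 w hwC hw) (h3 u huC hu)).trans hgen
  obtain ⟨⟨x, hxC⟩, ⟨hxQ, hxd⟩, hxq⟩ := hle ⟨⟨q, hqC⟩, hq, rfl⟩
  have hdiff : x⁻¹ * q ∈ Subgroup.zpowers z := by
    obtain ⟨k, hk⟩ := Subgroup.mem_zpowers_iff.1 ((QuotientGroup.eq).1 hxq)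
    exact Subgroup.mem_zpowers_iff.2 ⟨k, by
      have := congrArg Subtype.val hk
      simpa [zC] using this⟩
  have : x = q := by
    have h1 := s.inter ((Subgroup.zpowers_le.2 hzP) hdiff) (mul_mem (inv_mem hxQ) hq)
    exact inv_mul_eq_one.1 h1
  exact this ▸ Subgroup.mem_centralizer_singleton_iff.1 hxd

/-- Commuting inverted members are dependent. -/
theorem Setup.cyclic (s : Setup E Q P d) {w u : H} (hw : w ∈ invSet P d) (hu : u ∈ invSet P d)
    (hu1 : u ≠ 1) (hc : Commute w u) : w ∈ Subgroup.zpowers u := by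
  by_contra hwu
  have hz : w * u * w⁻¹ * u⁻¹ = 1 := by rw [hc.eq]; group
  exact s.not_all_commute fun q hq => s.fixed_commutator hw hu hu1 hwu
    (by rw [hz]; exact Commute.one_left _) (by rw [hz]; exact Commute.one_left _) q hq
    (by rw [hz]; exact Commute.one_right _)

/-- The inverted members generate `P`. -/
theorem Setup.gen (s : Setup E Q P d) {p : H} (hp : p ∈ P) :
    p ∈ Subgroup.closure (invSet P d) := by
  haveI := s.normalQ
  have hdd := s.dd
  have hdi := tt_inv s.tt.1 s.mem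
  set Y := Subgroup.closure (invSet P d) with hY
  have hYd : ∀ y ∈ Y, d * y * d ∈ Y := by
    intro y hy
    have hle : Y ≤ Y.comap (MulAut.conj d).toMonoidHom := (Subgroup.closure_le _).2 fun a ha => by
      show d * a * d⁻¹ ∈ Y
      rw [hdi, ha.2]
      exact inv_mem (Subgroup.subset_closure ha)
    have h : d * y * d⁻¹ ∈ Y := hle hy
    rwa [hdi] at h
  have hYP : Y ≤ P := (Subgroup.closure_le _).2 fun a ha => ha.1
  let S : Subgroup H :=
    { carrier := {h | ∃ y ∈ Y, ∃ q ∈ Q, h = y * q ∨ h = d * y * q}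
      one_mem' := ⟨1, one_mem _, 1, one_mem _, Or.inl (by simp)⟩
      mul_mem' := by
        rintro x x' ⟨y, hy, q, hq, hx⟩ ⟨y', hy', q', hq', hx'⟩
        have e1 : ∀ t, t⁻¹ * q * t ∈ Q := fun t => by simpa using s.normalQ.conj_mem q hq t⁻¹
        rcases hx with rfl | rfl <;> rcases hx' with rfl | rfl
        · exact ⟨y * y', mul_mem hy hy', y'⁻¹ * q * y' * q', mul_mem (e1 y') hq', Or.inl (by group)⟩
        · refine ⟨d * y * d * y', mul_mem (hYd y hy) hy', (d * y')⁻¹ * q * (d * y') * q',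
            mul_mem (e1 _) hq', Or.inr ?_⟩
          calc y * q * (d * y' * q') = y * (d * y') * ((d * y')⁻¹ * q * (d * y') * q') := by group
            _ = d * (d * y * d * y') * ((d * y')⁻¹ * q * (d * y') * q') := by
              simp only [← mul_assoc, hdd, one_mul]
        · exact ⟨y * y', mul_mem hy hy', y'⁻¹ * q * y' * q', mul_mem (e1 y') hq', Or.inr (by group)⟩
        · refine ⟨d * y * d * y', mul_mem (hYd y hy) hy', (d * y')⁻¹ * q * (d * y') * q',
            mul_mem (e1 _) hq', Or.inl ?_⟩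
          calc d * y * q * (d * y' * q') = d * y * (d * y') * ((d * y')⁻¹ * q * (d * y') * q') := by
                group
            _ = d * y * d * y' * ((d * y')⁻¹ * q * (d * y') * q') := by simp only [mul_assoc]
      inv_mem' := by
        rintro x ⟨y, hy, q, hq, hx⟩
        have hqi := inv_mem hq
        rcases hx with rfl | rfl
        · exact ⟨y⁻¹, inv_mem hy, y * q⁻¹ * y⁻¹, s.normalQ.conj_mem _ hqi y, Or.inl (by group)⟩
        · refine ⟨d * y⁻¹ * d, hYd _ (inv_mem hy), d * y * q⁻¹ * (d * y)⁻¹,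
            s.normalQ.conj_mem _ hqi _, Or.inr ?_⟩
          calc (d * y * q)⁻¹ = (d * y)⁻¹ * (d * y * q⁻¹ * (d * y)⁻¹) := by group
            _ = d * (d * y⁻¹ * d) * (d * y * q⁻¹ * (d * y)⁻¹) := by
              rw [mul_inv_rev d y, hdi]; simp only [← mul_assoc, hdd, one_mul] }
  have hdS : d ∈ S := ⟨1, one_mem _, 1, one_mem _, Or.inr (by simp)⟩
  have hQS : ∀ q ∈ Q, q ∈ S := fun q hq => ⟨1, one_mem _, q, hq, Or.inl (by simp)⟩
  have hYS : ∀ y ∈ Y, y ∈ S := fun y hy => ⟨y, hy, 1, one_mem _, Or.inl (by simp)⟩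
  have htop : S = ⊤ := by
    rw [eq_top_iff, ← s.tt.2.2, Subgroup.closure_le]
    intro e he
    obtain ⟨g, rfl⟩ := s.cls e he
    have hconj : ∀ p ∈ P, p * d * p⁻¹ ∈ S := by
      intro p hp
      have hI : p * d * p⁻¹ * d ∈ invSet P d := by
        refine ⟨?_, ?_⟩
        · have := mul_mem hp (s.norm _ (inv_mem hp))
          simpa only [mul_assoc] using this
        · simp only [mul_inv_rev, inv_inv, hdi, mul_assoc, hdd, mul_one]
      rw [show p * d * p⁻¹ = p * d * p⁻¹ * d * d by rw [mul_assoc _ d d, hdd, mul_one]]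
      exact mul_mem (hYS _ (Subgroup.subset_closure hI)) hdS
    obtain ⟨p, hp, q, hq, hg⟩ := s.span g
    have hqd : q * d * q⁻¹ * d ∈ Q := by
      have := mul_mem hq (s.normalQ.conj_mem _ (inv_mem hq) d)
      rw [hdi] at this
      simpa only [mul_assoc] using this
    have hpq : p * q * d * (p * q)⁻¹ ∈ S := by
      rw [show p * q * d * (p * q)⁻¹ = (p * (q * d * q⁻¹ * d) * p⁻¹) * (p * d * p⁻¹) by
        simp only [mul_inv_rev, mul_assoc, inv_mul_cancel_left]
        rw [← mul_assoc d d, hdd, one_mul]]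
      exact mul_mem (hQS _ (s.normalQ.conj_mem _ hqd p)) (hconj p hp)
    rcases hg with rfl | rfl
    · exact hpq
    · rw [show d * p * q * d * (d * p * q)⁻¹ = d * (p * q * d * (p * q)⁻¹) * d⁻¹ by group]
      exact mul_mem (mul_mem hdS hpq) (inv_mem hdS)
  obtain ⟨y, hy, q, hq, h | h⟩ : p ∈ S := htop ▸ trivial
  · have : q = 1 := s.inter (by
      rw [show q = y⁻¹ * p by rw [h]; group]; exact mul_mem (inv_mem (hYP hy)) hp) hq
    rw [h, this, mul_one]; exact hy
  · exfalso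
    apply s.notQ
    have hd' : d = p * (q⁻¹ * y⁻¹) := by rw [h]; group
    have h2 : QuotientGroup.mk' Q d ∈ P.map (QuotientGroup.mk' Q) := by
      have hq1 : QuotientGroup.mk' Q q = 1 := (QuotientGroup.eq_one_iff q).2 hq
      refine ⟨p * y⁻¹, mul_mem hp (inv_mem (hYP hy)), ?_⟩
      rw [hd']; simp only [map_mul, map_inv, hq1, inv_one, one_mul]
    refine (QuotientGroup.eq_one_iff d).1 (?_ : QuotientGroup.mk' Q d = 1)
    exact eq_one_of_isPGroup (s.hP.map (QuotientGroup.mk' Q)) (n := 2) (by norm_num) h2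
      (by rw [← map_pow, sq, hdd, map_one])

/-- The commutator with a central-modulo-centre member. -/
theorem Setup.structure_thm (s : Setup E Q P d) (hne : P ≠ ⊥) :
    (∃ a, a ≠ 1 ∧ a ∈ invSet P d ∧ ∀ p ∈ P, p ∈ Subgroup.zpowers a) ∨
      ∃ w x, Rel54 w x d ∧ w ∈ P ∧ x ∈ P ∧ P ≤ Subgroup.closure ({w, x} : Set H) := by
  haveI : Fact (Nat.Prime 3) := ⟨Nat.prime_three⟩
  haveI : Fact (Nat.Prime 2) := ⟨Nat.prime_two⟩
  haveI := s.normalQ
  have hdd := s.dd
  obtain ⟨a, ha, ha1⟩ : ∃ a ∈ invSet P d, a ≠ 1 := by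
    by_contra hno
    push Not at hno
    refine hne ((Subgroup.eq_bot_iff_forall _).2 fun p hp => ?_)
    have hle : Subgroup.closure (invSet P d) ≤ ⊥ :=
      (Subgroup.closure_le _).2 fun a ha => Subgroup.mem_bot.2 (hno a ha)
    exact Subgroup.mem_bot.1 (hle (s.gen hp))
  by_cases hall : ∀ x ∈ invSet P d, Commute x a
  · exact Or.inl ⟨a, ha1, ha, fun p hp => (Subgroup.closure_le _).2
      (fun x hx => s.cyclic hx ha ha1 (hall x hx)) (s.gen hp)⟩
  right
  push Not at hall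
  obtain ⟨b, hb, hab⟩ := hall
  -- the centre is fixed
  have hcfix : ∀ c ∈ P, (∀ p ∈ P, Commute c p) → d * c * d = c := by
    intro c hc hcc
    set c' := c⁻¹ * (d * c * d) with hc'
    have hI : c' ∈ invSet P d := s.twist hc
    have hcen : ∀ p ∈ P, Commute c' p := by
      intro p hp
      have h1 : Commute (d * c * d) p := by
        have := Fischer3.commute_conj d (hcc _ (s.norm p hp))
        rw [tt_inv s.tt.1 s.mem,
          show d * (d * p * d) * d = (d * d) * p * (d * d) by simp only [mul_assoc],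
          hdd, one_mul, mul_one] at this
        exact this
      exact (hcc p hp).inv_left.mul_left h1
    by_contra hne'
    have hc1 : c' ≠ 1 := fun h => hne' (inv_mul_eq_one.1 h).symm
    apply hab
    obtain ⟨i, hi⟩ := s.cyclic hb hI hc1 (hcen b hb.1).symm
    obtain ⟨j, hj⟩ := s.cyclic ha hI hc1 (hcen a ha.1).symm
    simp only at hi hj
    rw [← hi, ← hj]
    exact Commute.zpow_zpow_self c' i j
  -- a member central modulo the centre and inverted
  obtain ⟨w, hw, hw1, hwZ⟩ : ∃ w ∈ invSet P d, w ≠ 1 ∧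
      ∀ g ∈ P, ∀ p ∈ P, Commute (w * g * w⁻¹ * g⁻¹) p := by
    let Z := Subgroup.center ↥P
    haveI : Nontrivial (↥P ⧸ Z) := by
      rw [← not_subsingleton_iff_nontrivial]
      intro hsub
      have : ∀ p : ↥P, p ∈ Z := fun p =>
        (QuotientGroup.eq_one_iff p).1 (Subsingleton.elim (QuotientGroup.mk p) 1)
      exact hab (congrArg Subtype.val (Subgroup.mem_center_iff.1 (this ⟨a, ha.1⟩) ⟨b, hb.1⟩))
    have hq := (s.hP.to_quotient Z)
    haveI := hq.center_nontrivial
    obtain ⟨⟨c, hc⟩, hc1⟩ := exists_ne (1 : Subgroup.center (↥P ⧸ Z))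
    obtain ⟨w0, rfl⟩ := QuotientGroup.mk_surjective c
    have hw0Z : w0 ∉ Z := fun h => hc1 (Subtype.ext ((QuotientGroup.eq_one_iff w0).2 h))
    have hprop : ∀ g ∈ P, ∀ p ∈ P, Commute ((w0 : H) * g * (w0 : H)⁻¹ * g⁻¹) p := by
      intro g hg p hp
      have h1 := Subgroup.mem_center_iff.1 hc (QuotientGroup.mk ⟨g, hg⟩)
      have h2 : (QuotientGroup.mk (w0 * ⟨g, hg⟩ * w0⁻¹ * (⟨g, hg⟩ : ↥P)⁻¹) : ↥P ⧸ Z) = 1 := by
        simp only [QuotientGroup.mk_mul, QuotientGroup.mk_inv]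
        rw [← h1, mul_inv_cancel_right, mul_inv_cancel]
      exact (congrArg Subtype.val (Subgroup.mem_center_iff.1 ((QuotientGroup.eq_one_iff _).1 h2)
        ⟨p, hp⟩)).symm
    set w := (w0 : H)⁻¹ * (d * w0 * d) with hw'
    have hwI : w ∈ invSet P d := s.twist w0.2
    have hcc : ∀ g ∈ P, d * ((w0 : H) * g * (w0 : H)⁻¹ * g⁻¹) * d =
        (w0 : H) * g * (w0 : H)⁻¹ * g⁻¹ := fun g hg =>
      hcfix _ (mul_mem (mul_mem (mul_mem w0.2 hg) (inv_mem w0.2)) (inv_mem hg)) (hprop g hg)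
    refine ⟨w, hwI, fun hw1 => ?_, ?_⟩
    · -- `w0` fixed by `d` would be central
      apply hw0Z
      have hfix : d * (w0 : H) * d = w0 := (inv_mul_eq_one.1 hw1).symm
      refine Subgroup.mem_center_iff.2 fun p => Subtype.ext ?_
      suffices h : Subgroup.closure (invSet P d) ≤ Subgroup.centralizer ({(w0 : H)} : Set H) from
        Subgroup.mem_centralizer_singleton_iff.1 (h (s.gen p.2))
      rw [Subgroup.closure_le]
      intro y hy
      rw [SetLike.mem_coe, Subgroup.mem_centralizer_singleton_iff]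
      set t := (w0 : H) * y * (w0 : H)⁻¹ * y⁻¹ with ht
      have h1 : d * t * d = (w0 : H) * y⁻¹ * (w0 : H)⁻¹ * y := by
        rw [ht, s.dmul, s.dmul, s.dmul, s.dinv, s.dinv, hfix, hy.2, inv_inv]
      rw [hcc y hy.1, ← ht] at h1
      have h2 : (w0 : H) * y⁻¹ * (w0 : H)⁻¹ * y = t⁻¹ := by
        calc (w0 : H) * y⁻¹ * (w0 : H)⁻¹ * y = y⁻¹ * t⁻¹ * y := by rw [ht]; group
          _ = t⁻¹ := by
            rw [((hprop y hy.1 y hy.1).inv_left).symm.inv_left.eq, inv_mul_cancel_right]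
      rw [h2] at h1
      have ht1 : t = 1 := eq_one_of_isPGroup s.hP (n := 2) (by norm_num)
        (mul_mem (mul_mem (mul_mem w0.2 hy.1) (inv_mem w0.2)) (inv_mem hy.1))
        (by rw [sq]; nth_rw 1 [h1]; rw [inv_mul_cancel])
      calc y * (w0 : H) = t⁻¹ * ((w0 : H) * y) := by rw [ht]; group
        _ = (w0 : H) * y := by rw [ht1, inv_one, one_mul]
    · intro g hg p hp
      -- the property holds for the conjugate and passes to the quotient
      have hA : ∀ g ∈ P, ∀ p ∈ P, Commute ((d * w0 * d) * g * (d * w0 * d)⁻¹ * g⁻¹) p := by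
        intro g hg p hp
        have hr : d * (d * g * d) * d = g := by
          rw [show d * (d * g * d) * d = (d * d) * g * (d * d) by simp only [mul_assoc], hdd,
            one_mul, mul_one]
        have h1 := hcc (d * g * d) (s.norm g hg)
        rw [s.dmul, s.dmul, s.dmul, s.dinv, s.dinv, hr] at h1
        rw [h1]
        exact hprop _ (s.norm g hg) p hp
      have hsplit : w * g * w⁻¹ * g⁻¹ =
          (w0 : H)⁻¹ * ((d * w0 * d) * g * (d * w0 * d)⁻¹ * g⁻¹) * w0 *
            ((w0 : H) * ((w0 : H)⁻¹ * g * w0) * (w0 : H)⁻¹ * ((w0 : H)⁻¹ * g * w0)⁻¹)⁻¹ := by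
        rw [hw']; group
      have hg' : (w0 : H)⁻¹ * g * w0 ∈ P := mul_mem (mul_mem (inv_mem w0.2) hg) w0.2
      rw [hsplit]
      refine Commute.mul_left ?_ ((hprop _ hg' p hp).inv_left)
      rw [mul_assoc, (hA g hg _ w0.2).eq, inv_mul_cancel_left]
      exact hA g hg p hp
  -- the map to the centre
  let κ : H → H := fun g => w * g * w⁻¹ * g⁻¹
  have κmul : ∀ g ∈ P, ∀ h ∈ P, κ (g * h) = κ g * κ h := by
    intro g hg h hh
    calc κ (g * h) = κ g * (g * κ h * g⁻¹) := by simp only [κ]; group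
      _ = κ g * κ h := by rw [(hwZ h hh g hg).symm.eq, mul_inv_cancel_right]
  have κone : κ 1 = 1 := by simp [κ]
  have κpow : ∀ g ∈ P, ∀ n : ℕ, κ (g ^ n) = κ g ^ n := by
    intro g hg n
    induction n with
    | zero => simpa using κone
    | succ n ih => rw [pow_succ, κmul _ (pow_mem hg n) _ hg, ih, pow_succ]
  have hκ3 : ∀ g ∈ P, κ g ^ 3 = 1 := by
    intro g hg
    have h1 : g * w * g⁻¹ = (κ g)⁻¹ * w := by simp only [κ]; group
    have h2 : (g * w * g⁻¹) ^ 3 = 1 := by rw [conj_pow, s.pow_three hw]; group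
    rw [h1, ((hwZ g hg w hw.1).inv_left).mul_pow, s.pow_three hw, mul_one, inv_pow, inv_eq_one] at h2
    exact h2
  have hκP : ∀ g ∈ P, κ g ∈ P := fun g hg =>
    mul_mem (mul_mem (mul_mem hw.1 hg) (inv_mem hw.1)) (inv_mem hg)
  obtain ⟨x, hx, hzx⟩ : ∃ x ∈ invSet P d, κ x ≠ 1 := by
    by_contra hno
    push Not at hno
    have hcw : ∀ p ∈ P, Commute w p := by
      intro p hp
      have hle : Subgroup.closure (invSet P d) ≤ Subgroup.centralizer ({w} : Set H) := by
        rw [Subgroup.closure_le]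
        intro y hy
        rw [SetLike.mem_coe, Subgroup.mem_centralizer_singleton_iff]
        calc y * w = (κ y)⁻¹ * (w * y) := by simp only [κ]; group
          _ = w * y := by rw [hno y hy, inv_one, one_mul]
      exact (Subgroup.mem_centralizer_singleton_iff.1 (hle (s.gen hp))).symm
    have h1 : w = w⁻¹ := (hcfix w hw.1 hcw).symm.trans hw.2
    exact hw1 (eq_one_of_isPGroup s.hP (n := 2) (by norm_num) hw.1
      (by rw [sq]; nth_rw 1 [h1]; rw [inv_mul_cancel]))
  have hwx : ∀ g ∈ invSet P d, κ g ≠ 1 → ∀ q ∈ Q, Commute q (κ g) → Commute q d := by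
    intro g hg hgk
    refine s.fixed_commutator hw hg (fun h => hgk (by rw [h]; exact κone)) (fun h => hgk ?_)
      (hwZ g hg.1 w hw.1) (hwZ g hg.1 g hg.1)
    obtain ⟨i, hi⟩ := h
    simp only at hi
    simp only [κ]
    rw [← hi, ((Commute.refl g).zpow_left i).eq]
    group
  have hrank : ∀ y ∈ invSet P d, κ y ∈ Subgroup.zpowers (κ x) := by
    intro y hy
    by_contra hyx
    have hy1 : κ y ≠ 1 := fun h => hyx (h ▸ one_mem _)
    have hxy : κ x ∉ Subgroup.zpowers (κ y) := by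
      intro h
      apply hyx
      have ho : ∀ g ∈ P, κ g ≠ 1 → orderOf (κ g) = 3 := fun g hg h =>
        orderOf_eq_prime (hκ3 g hg) h
      have heq := Subgroup.eq_of_le_of_card_ge (Subgroup.zpowers_le.2 h)
        (by rw [Nat.card_zpowers, Nat.card_zpowers, ho y hy.1 hy1, ho x hx.1 hzx])
      rw [heq]
      exact Subgroup.mem_zpowers _
    set A := Subgroup.closure ({κ x, κ y} : Set H) with hA
    haveI : IsMulCommutative A := isMulCommutative_of A (abelian_closure (by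
      intro u hu v hv
      simp only [Set.mem_insert_iff, Set.mem_singleton_iff] at hu hv
      rcases hu with hu | hu <;> rcases hv with hv | hv <;> rw [hu, hv]
      · exact (hwZ x hx.1 (κ y) (hκP y hy.1)).eq
      · exact (hwZ y hy.1 (κ x) (hκP x hx.1)).eq))
    have hAP : A ≤ P := (Subgroup.closure_le _).2 (by
      rintro u (rfl | rfl) <;> exact hκP _ (by first | exact hx.1 | exact hy.1))
    have hcop : (Nat.card A).Coprime (Nat.card Q) :=
      IsPGroup.coprime_card_of_ne 3 2 (by norm_num) A Q (s.hP.to_le hAP) s.hQ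
    have hpQ : Nat.Coprime 3 (Nat.card Q) := by
      obtain ⟨m, hm⟩ := IsPGroup.iff_card.1 s.hQ
      rw [hm]; exact Nat.Coprime.pow_right m (by norm_num)
    have hle := le_genCent A 3 (κ x) (κ y) (Subgroup.subset_closure (by simp))
      (Subgroup.subset_closure (by simp)) Q (by rw [Subgroup.normalizer_eq_top_iff.2 s.normalQ]; exact le_top)
      hcop hpQ (by rw [hκ3 x hx.1]; exact one_mem _) (by rw [hκ3 y hy.1]; exact one_mem _)
    have hgen : genCent (κ x) (κ y) Q ≤ Q ⊓ Subgroup.centralizer ({d} : Set H) := by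
      refine sup_le (iSup_le fun j => ?_) ?_
      · set v := y ^ (2 * j) * x * y ^ (2 * j) with hv
        have hyj := pow_mem hy.1 (2 * j)
        have hvI : v ∈ invSet P d := by
          refine ⟨mul_mem (mul_mem hyj hx.1) hyj, ?_⟩
          rw [hv, s.dmul, s.dmul, s.dpow, hy.2, hx.2]
          group
        have hκv : κ v = κ x * κ y ^ j := by
          rw [hv, κmul _ (mul_mem hyj hx.1) _ hyj, κmul _ hyj _ hx.1, κpow _ hy.1,
            ((hwZ y hy.1 (κ x) (hκP x hx.1)).pow_left (2 * j)).eq, mul_assoc, ← pow_add,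
            show 2 * j + 2 * j = 3 * j + j by ring, pow_add, pow_mul, hκ3 y hy.1, one_pow, one_mul]
        have hκv1 : κ v ≠ 1 := fun h => hxy (by
          have h1 : κ x * κ y ^ j = 1 := hκv ▸ h
          rw [eq_inv_of_mul_eq_one_left h1]
          exact inv_mem (pow_mem (Subgroup.mem_zpowers _) _))
        rintro q ⟨hq, hqc⟩
        replace hqc := Subgroup.mem_centralizer_singleton_iff.1 hqc
        rw [← hκv] at hqc
        exact ⟨hq, Subgroup.mem_centralizer_singleton_iff.2 (hwx v hvI hκv1 q hq hqc).eq⟩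
      · rintro q ⟨hq, hqc⟩
        replace hqc := Subgroup.mem_centralizer_singleton_iff.1 hqc
        exact ⟨hq, Subgroup.mem_centralizer_singleton_iff.2 (hwx y hy hy1 q hq hqc).eq⟩
    exact s.not_all_commute fun q hq =>
      Subgroup.mem_centralizer_singleton_iff.1 (hgen (hle hq)).2
  refine ⟨w, x, ⟨s.pow_three hw, s.pow_three hx, hdd, hw.2, hx.2, hwZ x hx.1 w hw.1,
    hwZ x hx.1 x hx.1, hzx⟩, hw.1, hx.1, fun p hp => ?_⟩
  refine (Subgroup.closure_le _).2 ?_ (s.gen hp)
  intro y hy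
  obtain ⟨j, hj⟩ := (isOfFinOrder_of_finite (κ x)).mem_powers_iff_mem_zpowers.2 (hrank y hy)
  simp only at hj
  set u := x ^ j * y * x ^ j with hu
  have huI : u ∈ invSet P d := by
    refine ⟨mul_mem (mul_mem (pow_mem hx.1 _) hy.1) (pow_mem hx.1 _), ?_⟩
    rw [hu, s.dmul, s.dmul, s.dpow, hx.2, hy.2]
    group
  have hκu : κ u = 1 := by
    rw [hu, κmul _ (mul_mem (pow_mem hx.1 _) hy.1) _ (pow_mem hx.1 _), κmul _ (pow_mem hx.1 _) _ hy.1,
      κpow _ hx.1, ← hj, ← pow_add, ← pow_add, show j + j + j = 3 * j by ring, pow_mul,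
      hκ3 x hx.1, one_pow]
  have hcu : Commute u w := by
    calc u * w = (κ u)⁻¹ * (w * u) := by simp only [κ]; group
      _ = w * u := by rw [hκu, inv_one, one_mul]
  have hmw : w ∈ Subgroup.closure ({w, x} : Set H) := Subgroup.subset_closure (by simp)
  have hmx : x ∈ Subgroup.closure ({w, x} : Set H) := Subgroup.subset_closure (by simp)
  rw [SetLike.mem_coe, show y = (x ^ j)⁻¹ * u * (x ^ j)⁻¹ by rw [hu]; group]
  exact mul_mem (mul_mem (inv_mem (pow_mem hmx j))
    ((Subgroup.zpowers_le.2 hmw) (s.cyclic huI hw hw1 hcu))) (inv_mem (pow_mem hmx j))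

end Cfsg.Agent.Fischer3U32
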